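import Mathlib
import Groth.Prelude.Def_W4c1famcyclesFFR

set_option autoImplicit false
universe u
open Polynomial

namespace Groth.Agent.FFRDet

section Exact

variable {R : Type*} [CommRing R] {W V U : Type*} [AddCommGroup W] [AddCommGroup V] [AddCommGroup U]
  [Module R W] [Module R V] [Module R U] [Module.Finite R W] [Module.Finite R V] [Module.Finite R U]
  [Module.Free R W] [Module.Free R V] [Module.Free R U]

theorem charpoly_prod_triangular (e : (W × U) →ₗ[R] (W × U)) (eW : W →ₗ[R] W) (eU : U →ₗ[R] U)
    (h1 : ∀ w, e (w, 0) = (eW w, 0)) (h2 : ∀ x, (e x).2 = eU x.2) :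
    e.charpoly = eW.charpoly * eU.charpoly := by
  classical
  let bW := Module.Free.chooseBasis R W
  let bU := Module.Free.chooseBasis R U
  have : LinearMap.toMatrix (bW.prod bU) (bW.prod bU) e = Matrix.fromBlocks
      (LinearMap.toMatrix bW bW eW) (Matrix.of fun i l => bW.repr (e (0, bU l)).1 i) 0
      (LinearMap.toMatrix bU bU eU) := by
    ext u v
    rcases u with i | i <;> rcases v with j | j <;>
      simp [LinearMap.toMatrix_apply, h1, h2]
  rw [← LinearMap.charpoly_toMatrix e (bW.prod bU), this, Matrix.charpoly_fromBlocks_zero₂₁,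
    LinearMap.charpoly_toMatrix, LinearMap.charpoly_toMatrix]

theorem charpoly_exact (i : W →ₗ[R] V) (π : V →ₗ[R] U) (hi : Function.Injective i)
    (hπ : Function.Surjective π) (hex : Function.Exact i π) (e : V →ₗ[R] V) (eW : W →ₗ[R] W)
    (eU : U →ₗ[R] U) (h1 : e ∘ₗ i = i ∘ₗ eW) (h2 : π ∘ₗ e = eU ∘ₗ π) :
    e.charpoly = eW.charpoly * eU.charpoly := by
  obtain ⟨s, hs⟩ := Module.projective_lifting_property π LinearMap.id hπ
  obtain ⟨E, hE1, hE2⟩ : ∃ E : V ≃ₗ[R] W × U, i = E.symm ∘ₗ LinearMap.inl R W U ∧
      π = LinearMap.snd R W U ∘ₗ E := by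
    have := (hex.split_tfae hi hπ).out 0 2
    exact (this.mp ⟨s, hs⟩)
  rw [← LinearEquiv.charpoly_conj E e]
  refine charpoly_prod_triangular _ eW eU (fun w => ?_) (fun x => ?_)
  · have hw : E.symm (w, 0) = i w := by rw [hE1]; simp
    have hb := LinearMap.congr_fun h1 w
    simp only [LinearMap.comp_apply] at hb
    rw [LinearEquiv.conj_apply_apply, hw, hb, hE1]
    simp
  · have := LinearMap.congr_fun h2 (E.symm x)
    simpa [LinearEquiv.conj_apply_apply, hE2] using this

end Exact

section Local

theorem free_left {R : Type*} [CommRing R] [IsLocalRing R] {W V U : Type*} [AddCommGroup W]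
    [AddCommGroup V] [AddCommGroup U] [Module R W] [Module R V] [Module R U] [Module.Finite R W]
    [Module.Free R V] [Module.Free R U] (ι : W →ₗ[R] V) (π : V →ₗ[R] U) (hι : Function.Injective ι)
    (hπ : Function.Surjective π) (hex : Function.Exact ι π) : Module.Free R W := by
  obtain ⟨s, hs⟩ := Module.projective_lifting_property π LinearMap.id hπ
  have hsp := (hex.split_tfae hι hπ).out 0 1
  obtain ⟨r, hr⟩ := hsp.mp ⟨s, hs⟩
  have : Module.Projective R W := Module.Projective.of_split ι r hr
  exact Module.free_of_flat_of_isLocalRing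

theorem free_right_of_socle {R : Type*} [CommRing R] [IsLocalRing R] {W V U : Type*}
    [AddCommGroup W] [AddCommGroup V] [AddCommGroup U] [Module R W] [Module R V] [Module R U]
    [Module.Finite R W] [Module.Free R W] [Module.Finite R V] [Module.Free R V]
    [Module.Finite R U]
    (ι : W →ₗ[R] V) (π : V →ₗ[R] U) (hι : Function.Injective ι) (hπ : Function.Surjective π)
    (hex : Function.Exact ι π) (z : R) (hz : z ≠ 0)
    (hzm : ∀ x ∈ IsLocalRing.maximalIdeal R, x * z = 0) : Module.Free R U := by
  refine Module.free_of_lTensor_residueField_injective ι π hπ hex ?_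
  let bK := Module.Free.chooseBasis R W
  let bF := Module.Free.chooseBasis R V
  have key : ∀ v, (∀ i, bF.repr (ι v) i ∈ IsLocalRing.maximalIdeal R) →
      ∀ j, bK.repr v j ∈ IsLocalRing.maximalIdeal R := by
    intro v hv j
    have h0 : ι (z • v) = 0 := by
      apply bF.repr.injective
      ext i
      simp only [map_smul, Finsupp.smul_apply, smul_eq_mul, map_zero, Finsupp.zero_apply]
      rw [mul_comm, hzm _ (hv i)]
    have h1 : z • v = 0 := hι (by rw [h0, map_zero])
    have h2 : z * bK.repr v j = 0 := by
      have := congrArg (fun w => bK.repr w j) h1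
      simpa using this
    by_contra hu
    rw [IsLocalRing.mem_maximalIdeal, mem_nonunits_iff, not_not] at hu
    exact hz (hu.mul_left_eq_zero.mp h2)
  rw [injective_iff_map_eq_zero]
  intro x hx
  obtain ⟨v, rfl⟩ := TensorProduct.mk_surjective R _
    (IsLocalRing.ResidueField R) Ideal.Quotient.mk_surjective x
  simp only [TensorProduct.mk_apply, LinearMap.lTensor_tmul] at hx ⊢
  apply (bK.baseChange (IsLocalRing.ResidueField R)).repr.injective
  ext j
  rw [Module.Basis.baseChange_repr_tmul, map_zero, Finsupp.zero_apply, Algebra.smul_def, mul_one]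
  refine (IsLocalRing.residue_eq_zero_iff _).mpr (key v (fun i => ?_) j)
  have := congrArg (fun w => (bF.baseChange (IsLocalRing.ResidueField R)).repr w i) hx
  simp only [Module.Basis.baseChange_repr_tmul, map_zero, Finsupp.zero_apply, Algebra.smul_def,
    mul_one] at this
  exact (IsLocalRing.residue_eq_zero_iff _).mp this

end Local

variable {A : Type u} [CommRing A]

theorem finite_of_ffr [IsNoetherianRing A] : ∀ (n : ℕ) (M : Type u) [AddCommGroup M] [Module A M],
    FamCyc.HasFiniteFreeResolutionLE A n M → Module.Finite A M := by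
  intro n M _ _ h
  cases n with
  | zero => exact h.2
  | succ n => obtain ⟨k, f, hf, -⟩ := h; exact Module.Finite.of_surjective f hf

theorem exists_ne_zero_mul_eq_zero [IsNoetherianRing A] (p : Ideal A) [p.IsPrime]
    (hp : p ∈ associatedPrimes A A) :
    ∃ z : Localization.AtPrime p, z ≠ 0 ∧
      ∀ x ∈ IsLocalRing.maximalIdeal (Localization.AtPrime p), x * z = 0 := by
  obtain ⟨hp', x, hx⟩ := (isAssociatedPrime_iff).mp hp
  refine ⟨algebraMap A _ x, fun h => ?_, fun y hy => ?_⟩
  · obtain ⟨⟨s, hs⟩, hsx⟩ := (IsLocalization.map_eq_zero_iff p.primeCompl _ x).mp h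
    exact hs (show s ∈ p by rw [hx, Submodule.mem_colon_singleton]; simpa using hsx)
  · rw [← Localization.AtPrime.map_eq_maximalIdeal] at hy
    refine Submodule.span_induction ?_ (by simp) (fun a b _ _ ha hb => by rw [add_mul, ha, hb, add_zero])
      (fun r a _ ha => by rw [smul_eq_mul, mul_assoc, ha, mul_zero]) hy
    rintro _ ⟨a, ha, rfl⟩
    have : a * x = 0 := by
      have h0 : a ∈ p := ha
      rw [hx, Submodule.mem_colon_singleton] at h0
      simpa using h0
    rw [← map_mul, this, map_zero]

theorem eq_zero_of_forall_ass [IsNoetherianRing A] (c : A)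
    (h : ∀ (p : Ideal A) [p.IsPrime], p ∈ associatedPrimes A A →
      algebraMap A (Localization.AtPrime p) c = 0) : c = 0 := by
  by_contra hc
  obtain ⟨P, hP, hle⟩ := exists_le_isAssociatedPrime_of_isNoetherianRing A c hc
  have := hP.isPrime
  obtain ⟨⟨s, hs⟩, hsc⟩ := (IsLocalization.map_eq_zero_iff P.primeCompl _ c).mp (h P hP)
  exact hs (hle (by rw [Submodule.mem_colon_singleton]; simpa using hsc))

open LocalizedModule in
theorem free_localized_of_ffr [IsNoetherianRing A] (p : Ideal A) [p.IsPrime]
    (hp : p ∈ associatedPrimes A A) : ∀ (n : ℕ) (M : Type u) [AddCommGroup M] [Module A M],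
      FamCyc.HasFiniteFreeResolutionLE A n M →
        Module.Free (Localization.AtPrime p) (LocalizedModule p.primeCompl M) := by
  intro n
  induction n with
  | zero =>
    intro M _ _ h
    have := h.1
    exact Module.Free.of_basis ((Module.Free.chooseBasis A M).ofIsLocalizedModule
      (Localization.AtPrime p) p.primeCompl (LocalizedModule.mkLinearMap p.primeCompl M))
  | succ n ih =>
    intro M _ _ h
    obtain ⟨k, f, hf, hK⟩ := h
    have := ih _ hK
    have := finite_of_ffr n _ hK
    set S := p.primeCompl
    let ι := LocalizedModule.map S (LinearMap.ker f).subtype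
    let π := LocalizedModule.map S f
    have hι : Function.Injective ι :=
      IsLocalizedModule.map_injective S _ _ _ Subtype.val_injective
    have hπ : Function.Surjective π := IsLocalizedModule.map_surjective S _ _ _ hf
    have hex : Function.Exact ι π :=
      LocalizedModule.map_exact S _ _ (LinearMap.exact_subtype_ker_map f)
    haveI : Module.Free (Localization.AtPrime p) (LocalizedModule S (Fin k → A)) :=
      Module.Free.of_basis ((Pi.basisFun A (Fin k)).ofIsLocalizedModule
        (Localization.AtPrime p) S (LocalizedModule.mkLinearMap S (Fin k → A)))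
    obtain ⟨z, hz, hzm⟩ := exists_ne_zero_mul_eq_zero p hp
    haveI := finite_of_ffr (A := A) (n + 1) M ⟨k, f, hf, hK⟩
    haveI : Module.Finite (Localization.AtPrime p) (LocalizedModule S M) :=
      Module.Finite.of_isLocalizedModule S (LocalizedModule.mkLinearMap S M)
    haveI : Module.Finite (Localization.AtPrime p) (LocalizedModule S (LinearMap.ker f)) :=
      Module.Finite.of_isLocalizedModule S (LocalizedModule.mkLinearMap S (LinearMap.ker f))
    exact free_right_of_socle (W := LocalizedModule S (LinearMap.ker f)) ι π hι hπ hex z hz hzm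

theorem charpoly_localized_of_free (p : Ideal A) [p.IsPrime] (M : Type u) [AddCommGroup M]
    [Module A M] [Module.Free A M] [Module.Finite A M] (φ : M →ₗ[A] M)
    [Module.Free (Localization.AtPrime p) (LocalizedModule p.primeCompl M)]
    [Module.Finite (Localization.AtPrime p) (LocalizedModule p.primeCompl M)] :
    (LocalizedModule.map p.primeCompl φ).charpoly =
      φ.charpoly.map (algebraMap A (Localization.AtPrime p)) := by
  classical
  let b := Module.Free.chooseBasis A M
  let b' := b.ofIsLocalizedModule (Localization.AtPrime p) p.primeCompl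
    (LocalizedModule.mkLinearMap p.primeCompl M)
  rw [← LinearMap.charpoly_toMatrix _ b', ← LinearMap.charpoly_toMatrix φ b, ← Matrix.charpoly_map]
  congr 1
  ext i j
  have : LocalizedModule.map p.primeCompl φ (b' j) =
      LocalizedModule.mkLinearMap p.primeCompl M (φ (b j)) := by
    simp [b', Module.Basis.ofIsLocalizedModule_apply, LocalizedModule.mkLinearMap_apply]
  rw [LinearMap.toMatrix_apply, this, Matrix.map_apply, LinearMap.toMatrix_apply]
  exact Module.Basis.ofIsLocalizedModule_repr_apply _ _ _ _ _ _

theorem exists_pair [IsNoetherianRing A] : ∀ (n : ℕ) (M : Type u) [AddCommGroup M] [Module A M],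
    FamCyc.HasFiniteFreeResolutionLE A n M → ∀ φ : M →ₗ[A] M,
    ∃ P Q : A[X], P.Monic ∧ Q.Monic ∧ ∀ (p : Ideal A) [p.IsPrime]
      [Module.Free (Localization.AtPrime p) (LocalizedModule p.primeCompl M)]
      [Module.Finite (Localization.AtPrime p) (LocalizedModule p.primeCompl M)],
      P.map (algebraMap A (Localization.AtPrime p)) =
        Q.map (algebraMap A (Localization.AtPrime p)) * (LocalizedModule.map p.primeCompl φ).charpoly := by
  intro n
  induction n with
  | zero =>
    intro M _ _ h φ
    have := h.1
    have := h.2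
    refine ⟨φ.charpoly, 1, φ.charpoly_monic, monic_one, ?_⟩
    intro p _ _ _
    rw [Polynomial.map_one, one_mul, charpoly_localized_of_free p M φ]
  | succ n ih =>
    intro M _ _ h φ
    obtain ⟨k, f, hf, hK⟩ := h
    obtain ⟨φ₀, hφ₀⟩ := Module.projective_lifting_property f (φ ∘ₗ f) hf
    have hres : ∀ x ∈ LinearMap.ker f, φ₀ x ∈ LinearMap.ker f := by
      intro x hx
      rw [LinearMap.mem_ker] at hx ⊢
      have := LinearMap.congr_fun hφ₀ x
      simp only [LinearMap.comp_apply] at this
      rw [this, hx, map_zero]
    let φ₁ := φ₀.restrict hres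
    obtain ⟨P, Q, hP, hQ, hPQ⟩ := ih _ hK φ₁
    refine ⟨φ₀.charpoly * Q, P, φ₀.charpoly_monic.mul hQ, hP, ?_⟩
    intro p _ hfree hfin
    set S := p.primeCompl
    let ι := LocalizedModule.map S (LinearMap.ker f).subtype
    let π := LocalizedModule.map S f
    have hι : Function.Injective ι :=
      IsLocalizedModule.map_injective S _ _ _ Subtype.val_injective
    have hπ : Function.Surjective π := IsLocalizedModule.map_surjective S _ _ _ hf
    have hex : Function.Exact ι π :=
      LocalizedModule.map_exact S _ _ (LinearMap.exact_subtype_ker_map f)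
    haveI : Module.Free (Localization.AtPrime p) (LocalizedModule S (Fin k → A)) :=
      Module.Free.of_basis ((Pi.basisFun A (Fin k)).ofIsLocalizedModule
        (Localization.AtPrime p) S (LocalizedModule.mkLinearMap S (Fin k → A)))
    haveI : Module.Finite (Localization.AtPrime p) (LocalizedModule S (Fin k → A)) :=
      Module.Finite.of_basis ((Pi.basisFun A (Fin k)).ofIsLocalizedModule
        (Localization.AtPrime p) S (LocalizedModule.mkLinearMap S (Fin k → A)))
    haveI := finite_of_ffr n _ hK
    haveI : Module.Finite (Localization.AtPrime p) (LocalizedModule S (LinearMap.ker f)) :=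
      Module.Finite.of_isLocalizedModule S (LocalizedModule.mkLinearMap S (LinearMap.ker f))
    haveI : Module.Free (Localization.AtPrime p) (LocalizedModule S (LinearMap.ker f)) :=
      free_left (W := LocalizedModule S (LinearMap.ker f)) ι π hι hπ hex
    have h1 : LocalizedModule.map S φ₀ ∘ₗ ι = ι ∘ₗ LocalizedModule.map S φ₁ := by
      refine LinearMap.ext fun x => ?_
      induction x using LocalizedModule.induction_on with
      | _ m s => simp [ι, φ₁, LinearMap.restrict_apply]
    have h2 : π ∘ₗ LocalizedModule.map S φ₀ = LocalizedModule.map S φ ∘ₗ π := by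
      refine LinearMap.ext fun x => ?_
      induction x using LocalizedModule.induction_on with
      | _ m s =>
        have := LinearMap.congr_fun hφ₀ m
        simp only [LinearMap.comp_apply] at this
        simp [π, this]
    have h3 := charpoly_exact (W := LocalizedModule S (LinearMap.ker f)) ι π hι hπ hex _ _ _ h1 h2
    rw [Polynomial.map_mul, ← charpoly_localized_of_free p _ φ₀, h3, hPQ p]
    ring

theorem map_divByMonic_of_eq {B : Type*} [CommRing B] (h : A →+* B) {P Q : A[X]} (hQ : Q.Monic)
    {χ : B[X]} (he : P.map h = Q.map h * χ) :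
    (P /ₘ Q).map h = χ ∧ (P %ₘ Q).map h = 0 := by
  rw [Polynomial.map_divByMonic h hQ, Polynomial.map_modByMonic h hQ, he]
  exact ⟨mul_divByMonic_cancel_left _ (hQ.map h),
    (modByMonic_eq_zero_iff_dvd (hQ.map h)).mpr ⟨χ, rfl⟩⟩

theorem existsUnique_det [IsNoetherianRing A] (M : Type u) [AddCommGroup M] [Module A M] (n : ℕ)
    (hM : FamCyc.HasFiniteFreeResolutionLE A n M) (φ : M →ₗ[A] M) :
    ∃! a : A, ∀ (p : Ideal A) [p.IsPrime],
      Module.Free (Localization.AtPrime p) (LocalizedModule p.primeCompl M) →
        algebraMap A (Localization.AtPrime p) a =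
          LinearMap.det (LocalizedModule.map p.primeCompl φ) := by
  have := finite_of_ffr n M hM
  have hfin : ∀ (p : Ideal A) [p.IsPrime],
      Module.Finite (Localization.AtPrime p) (LocalizedModule p.primeCompl M) := fun p _ =>
    Module.Finite.of_isLocalizedModule p.primeCompl (LocalizedModule.mkLinearMap p.primeCompl M)
  obtain ⟨P, Q, -, hQ, hPQ⟩ := exists_pair n M hM (-φ)
  have hr : P %ₘ Q = 0 := by
    refine Polynomial.ext fun i => eq_zero_of_forall_ass _ fun p _ hp => ?_
    haveI := free_localized_of_ffr p hp n M hM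
    haveI := hfin p
    rw [← Polynomial.coeff_map, (map_divByMonic_of_eq _ hQ (hPQ p)).2, Polynomial.coeff_zero]
  refine ⟨(P /ₘ Q).eval 0, fun p _ hfree => ?_, fun a ha => ?_⟩
  · haveI := hfin p
    haveI := hfree
    have h1 := (map_divByMonic_of_eq _ hQ (hPQ p)).1
    rw [← Polynomial.eval_map_apply, h1, map_zero, LinearMap.eval_charpoly, map_zero, zero_sub,
      ← map_neg (LocalizedModule.map p.primeCompl), neg_neg]
  · refine sub_eq_zero.mp (eq_zero_of_forall_ass _ fun p _ hp => ?_)
    haveI := free_localized_of_ffr p hp n M hM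
    haveI := hfin p
    have h1 := (map_divByMonic_of_eq _ hQ (hPQ p)).1
    rw [map_sub, ha p inferInstance, ← Polynomial.eval_map_apply, h1, map_zero,
      LinearMap.eval_charpoly, map_zero, zero_sub, ← map_neg (LocalizedModule.map p.primeCompl), neg_neg, sub_self]

end Groth.Agent.FFRDet
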